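import Mathlib.Algebra.Homology.DerivedCategory.Ext.Linear
import Mathlib.Algebra.Homology.DerivedCategory.Ext.ExactSequences
import Mathlib.CategoryTheory.Abelian.Injective.Ext
import Mathlib.Algebra.Homology.DerivedCategory.Ext.EnoughInjectives
import Mathlib.Algebra.Homology.ShortComplex.HomologicalComplex
import Mathlib.LinearAlgebra.Dimension.Finrank
import Mathlib.LinearAlgebra.FiniteDimensional.Lemmas

/-!
Dimensions of `Ext^•(F, -)` along the cycles of a complex of injectives which is exact below degree `c`: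
up to the contribution of the homology above `c`, only the homology in degree `c` matters.
-/

set_option autoImplicit false
set_option backward.isDefEq.respectTransparency false
set_option linter.style.haveILetI false
universe u v

open CategoryTheory CategoryTheory.Limits CategoryTheory.Abelian

noncomputable section

namespace Groth.L13.AsympDual

/-- `a` and `b` differ by at most `e`. -/
def Near (a b e : ℕ) : Prop := a ≤ b + e ∧ b ≤ a + e

theorem Near.refl (a : ℕ) : Near a a 0 := ⟨le_rfl, le_rfl⟩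

theorem Near.of_eq {a b : ℕ} (h : a = b) (e : ℕ) : Near a b e := ⟨by omega, by omega⟩

theorem Near.trans {a b c e e' : ℕ} (h : Near a b e) (h' : Near b c e') : Near a c (e + e') :=
  ⟨by have := h.1; have := h'.1; omega, by have := h.2; have := h'.2; omega⟩

theorem Near.mono {a b e e' : ℕ} (h : Near a b e) (he : e ≤ e') : Near a b e' :=
  ⟨by have := h.1; omega, by have := h.2; omega⟩

section Linear

variable {k : Type u} [Field k] {A B C : Type*} [AddCommGroup A] [Module k A] [AddCommGroup B] [Module k B]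
  [AddCommGroup C] [Module k C]

/-- The middle term of an exact sequence. -/
theorem finite_and_le_of_exact (f : A →ₗ[k] B) (g : B →ₗ[k] C) (h : ∀ x, g x = 0 → ∃ y, f y = x)
    [Module.Finite k A] [Module.Finite k C] :
    Module.Finite k B ∧ Module.finrank k B ≤ Module.finrank k A + Module.finrank k C := by
  have hle : LinearMap.ker g ≤ LinearMap.range f := fun x hx => h x hx
  haveI : Module.Finite k (LinearMap.ker g) :=
    Submodule.finiteDimensional_of_le (S₂ := LinearMap.range f) hle
  haveI : Module.Finite k (B ⧸ LinearMap.ker g) :=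
    Module.Finite.equiv g.quotKerEquivRange.symm
  haveI hB : Module.Finite k B := Module.Finite.of_submodule_quotient (LinearMap.ker g)
  refine ⟨hB, ?_⟩
  have h1 := LinearMap.finrank_range_add_finrank_ker g
  have h2 := Submodule.finrank_le (LinearMap.range g)
  have h3 := (Submodule.finrank_mono hle).trans (LinearMap.finrank_range_le f)
  omega

end Linear

variable (k : Type u) [Field k] {C : Type v} [Category.{u} C] [Abelian C] [Linear k C] [HasExt.{u} C] (F : C)

/-- `Ext^s(F, f)`, linearly. -/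
def P {X Y : C} (f : X ⟶ Y) (s : ℕ) : Ext F X s →ₗ[k] Ext F Y s :=
  (Ext.mk₀ f).postcompOfLinear k F (add_zero s)

theorem P_apply {X Y : C} (f : X ⟶ Y) (s : ℕ) (x : Ext F X s) :
    P k F f s x = x.comp (Ext.mk₀ f) (add_zero s) := rfl

theorem P_comp {X Y Z : C} (f : X ⟶ Y) (g : Y ⟶ Z) (s : ℕ) (x : Ext F X s) :
    P k F (f ≫ g) s x = P k F g s (P k F f s x) := by
  simp only [P_apply]
  rw [← Ext.mk₀_comp_mk₀, Ext.comp_assoc_of_third_deg_zero]

theorem P_zero_apply {X Y : C} (s : ℕ) (x : Ext F X s) : P k F (0 : X ⟶ Y) s x = 0 := by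
  rw [P_apply, Ext.mk₀_zero, Ext.comp_zero]

/-- The dimension of `Ext^s(F, Z)`. -/
def e (s : ℕ) (Z : C) : ℕ := Module.finrank k (Ext F Z s)

/-- Finiteness of `Ext^s(F, Z)`. -/
abbrev Fin' (s : ℕ) (Z : C) : Prop := Module.Finite k (Ext F Z s)

variable {S : ShortComplex C} (hS : S.ShortExact)

/-- The connecting map. -/
def dlt (s : ℕ) : Ext F S.X₃ s →ₗ[k] Ext F S.X₁ (s + 1) := hS.extClass.postcompOfLinear k F rfl

include hS in
theorem mid {s : ℕ} (h1 : Fin' k F s S.X₁) (h3 : Fin' k F s S.X₃) :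
    Fin' k F s S.X₂ ∧ e k F s S.X₂ ≤ e k F s S.X₁ + e k F s S.X₃ := by
  haveI := h1
  haveI := h3
  exact finite_and_le_of_exact (P k F S.f s) (P k F S.g s) fun x hx => Ext.covariant_sequence_exact₂ F hS x hx

include hS in
theorem left {s : ℕ} (h3 : Fin' k F s S.X₃) (h2 : Fin' k F (s + 1) S.X₂) :
    Fin' k F (s + 1) S.X₁ ∧ e k F (s + 1) S.X₁ ≤ e k F s S.X₃ + e k F (s + 1) S.X₂ := by
  haveI := h3
  haveI := h2
  exact finite_and_le_of_exact (dlt k F hS s) (P k F S.f (s + 1)) fun x hx =>
    Ext.covariant_sequence_exact₁ F hS x hx rfl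

include hS in
theorem right {s : ℕ} (h2 : Fin' k F s S.X₂) (h1 : Fin' k F (s + 1) S.X₁) :
    Fin' k F s S.X₃ ∧ e k F s S.X₃ ≤ e k F s S.X₂ + e k F (s + 1) S.X₁ := by
  haveI := h2
  haveI := h1
  exact finite_and_le_of_exact (P k F S.g s) (dlt k F hS s) fun x hx =>
    Ext.covariant_sequence_exact₃ F hS x rfl hx

theorem subsingleton_ext_injective (I : C) [Injective I] (s : ℕ) : Subsingleton (Ext F I (s + 1)) :=
  subsingleton_of_forall_eq 0 Ext.eq_zero_of_injective

theorem zero_of_injective (I : C) [Injective I] (s : ℕ) : Fin' k F (s + 1) I ∧ e k F (s + 1) I = 0 := by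
  haveI := subsingleton_ext_injective F I s
  exact ⟨inferInstance, Module.finrank_zero_of_subsingleton⟩

variable (J : CochainComplex C ℕ)

/-- The boundaries. -/
def Bd (q : ℕ) : C := kernel (J.homologyπ q)

/-- Boundaries into cycles. -/
def bz (q : ℕ) : Bd J q ⟶ J.cycles q := kernel.ι (J.homologyπ q)

/-- The corestricted differential. -/
def db (q : ℕ) : J.X q ⟶ Bd J (q + 1) :=
  kernel.lift _ (J.toCycles q (q + 1)) (J.toCycles_comp_homologyπ q (q + 1))

theorem db_bz (q : ℕ) : db J q ≫ bz J (q + 1) = J.toCycles q (q + 1) := kernel.lift_ι _ _ _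

theorem bz_π (q : ℕ) : bz J q ≫ J.homologyπ q = 0 := kernel.condition _

theorem shortExact_A (q : ℕ) : (ShortComplex.mk (bz J q) (J.homologyπ q) (bz_π J q)).ShortExact := by
  haveI : Mono (bz J q) := by unfold bz; infer_instance
  exact { exact := ShortComplex.exact_of_f_is_kernel _ (kernelIsKernel _) }

theorem iCycles_db (q : ℕ) : J.iCycles q ≫ db J q = 0 := by
  haveI : Mono (bz J (q + 1)) := by unfold bz; infer_instance
  rw [← cancel_mono (bz J (q + 1)), Category.assoc, db_bz, zero_comp, ← cancel_mono (J.iCycles (q + 1)),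
    Category.assoc, J.toCycles_i, J.iCycles_d, zero_comp]

theorem epi_db (q : ℕ) : Epi (db J q) := by
  have h : (ShortComplex.mk (J.toCycles q (q + 1)) (J.homologyπ (q + 1))
      (J.toCycles_comp_homologyπ q (q + 1))).Exact :=
    ShortComplex.exact_of_g_is_cokernel _ (J.homologyIsCokernel q (q + 1) (CochainComplex.prev_nat_succ q))
  exact h.epi_kernelLift

theorem shortExact_D (q : ℕ) : (ShortComplex.mk (J.iCycles q) (db J q) (iCycles_db J q)).ShortExact := by
  haveI := epi_db J q
  haveI : Mono (bz J (q + 1)) := by unfold bz; infer_instance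
  let φ : ShortComplex.mk (J.iCycles q) (db J q) (iCycles_db J q) ⟶
      ShortComplex.mk (J.iCycles q) (J.d q (q + 1)) (J.iCycles_d q (q + 1)) :=
    { τ₁ := 𝟙 _
      τ₂ := 𝟙 _
      τ₃ := bz J (q + 1) ≫ J.iCycles (q + 1)
      comm₁₂ := by simp
      comm₂₃ := by simp [← Category.assoc, db_bz] }
  haveI : Mono φ.τ₃ := inferInstanceAs (Mono (bz J (q + 1) ≫ J.iCycles (q + 1)))
  haveI : IsIso φ.τ₂ := inferInstanceAs (IsIso (𝟙 _))
  haveI : Epi φ.τ₁ := inferInstanceAs (Epi (𝟙 _))
  exact { exact := (ShortComplex.exact_iff_of_epi_of_isIso_of_mono φ).2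
            (ShortComplex.exact_of_f_is_kernel _ (J.cyclesIsKernel q (q + 1) (by simp))) }

theorem isZero_Bd_zero : IsZero (Bd J 0) := by
  haveI : IsIso (J.homologyπ 0) :=
    J.isIso_homologyπ ((ComplexShape.up ℕ).prev 0) 0 rfl (J.shape _ _ (by simp))
  exact IsZero.of_iso (isZero_zero _) (kernel.ofMono _)

variable (hJ : ∀ q, Injective (J.X q))

include hJ in
/-- Below the first homology everything splits. -/
theorem injective_Bd {c : ℕ} (hex : ∀ q, q < c → IsZero (J.homology q)) :
    ∀ q, q ≤ c → Injective (Bd J q) ∧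
      ∀ p, p + 1 = q → ∃ r : Bd J q ⟶ J.X p, r ≫ J.toCycles p q = bz J q := by
  intro q
  induction q with
  | zero => exact fun _ => ⟨(isZero_Bd_zero J).injective, fun p hp => absurd hp (by omega)⟩
  | succ q ih =>
    intro hq
    have hB := (ih (by omega)).1
    haveI : IsIso (bz J q) := by
      have h := (shortExact_A J q).exact.epi_f ((hex q (by omega)).eq_of_tgt _ _)
      haveI : Mono (bz J q) := (shortExact_A J q).mono_f
      haveI : Epi (bz J q) := h
      exact isIso_of_mono_of_epi _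
    haveI : Injective (J.cycles q) := Injective.of_iso (asIso (bz J q)) hB
    let σ := (shortExact_D J q).splittingOfInjective
    haveI := hJ q
    refine ⟨⟨fun {A B} g f hf => ⟨Injective.factorThru (g ≫ σ.s) f ≫ db J q, ?_⟩⟩, fun p hp => ?_⟩
    · rw [← Category.assoc, Injective.comp_factorThru, Category.assoc, σ.s_g]
      exact Category.comp_id g
    · obtain rfl : p = q := by omega
      refine ⟨σ.s, ?_⟩
      rw [← db_bz, ← Category.assoc, σ.s_g]
      exact Category.id_comp _

/-- The error term. -/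
def R (c : ℕ) : ℕ → ℕ → ℕ
  | 0, _ => 0
  | p + 1, s => R c p (s + 1) + (e k F s (J.homology (c + p + 1)) + e k F (s - 1) (J.homology (c + p + 1)))

variable {c : ℕ} (hex : ∀ q, q < c → IsZero (J.homology q))
  (hfin : ∀ j, c ≤ j → ∀ s, Fin' k F s (J.homology j))

include hJ hex hfin in
/-- The cycles. -/
theorem cycles_near : ∀ p s, 1 ≤ s → Fin' k F s (J.cycles (c + p)) ∧
    Near (e k F s (J.cycles (c + p))) (e k F (s + p) (J.homology c)) (R k F J c p s) := by
  intro p
  induction p with
  | zero =>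
    intro s hs
    obtain ⟨s, rfl⟩ : ∃ t, s = t + 1 := ⟨s - 1, by omega⟩
    haveI := (injective_Bd J hJ hex c le_rfl).1
    obtain ⟨a1, a2⟩ := zero_of_injective k F (Bd J c) s
    obtain ⟨b1, b2⟩ := zero_of_injective k F (Bd J c) (s + 1)
    obtain ⟨m1, m2⟩ := mid k F (shortExact_A J c) a1 (hfin c le_rfl _)
    obtain ⟨_, r2⟩ := right k F (shortExact_A J c) (s := s + 1) m1 b1
    refine ⟨m1, ?_, ?_⟩
    · simp only [Nat.add_zero, R]
      rw [a2, zero_add] at m2
      exact m2
    · simp only [Nat.add_zero, R]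
      rw [b2, add_zero] at r2
      exact r2
  | succ p ih =>
    intro s hs
    obtain ⟨t, rfl⟩ : ∃ t, s = t + 1 := ⟨s - 1, by omega⟩
    show Fin' k F (t + 1) (J.cycles (c + p + 1)) ∧ Near (e k F (t + 1) (J.cycles (c + p + 1)))
      (e k F (t + 1 + (p + 1)) (J.homology c)) (R k F J c (p + 1) (t + 1))
    obtain ⟨z1, z2⟩ := ih (t + 2) (by omega)
    haveI := hJ (c + p)
    obtain ⟨x1, x2⟩ := zero_of_injective k F (J.X (c + p)) t
    obtain ⟨y1, y2⟩ := zero_of_injective k F (J.X (c + p)) (t + 1)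
    obtain ⟨b1, b2⟩ := right k F (shortExact_D J (c + p)) (s := t + 1) x1 z1
    obtain ⟨_, b3⟩ := left k F (shortExact_D J (c + p)) (s := t + 1) b1 y1
    have hH := hfin (c + p + 1) (by omega)
    obtain ⟨m1, m2⟩ := mid k F (shortExact_A J (c + p + 1)) b1 (hH _)
    obtain ⟨_, l2⟩ := left k F (shortExact_A J (c + p + 1)) (hH t) m1
    refine ⟨m1, ?_⟩
    have hR : R k F J c (p + 1) (t + 1) = R k F J c p (t + 2) +
      (e k F (t + 1) (J.homology (c + p + 1)) + e k F t (J.homology (c + p + 1))) := by simp [R]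
    have hidx : t + 1 + (p + 1) = t + 2 + p := by omega
    rw [hR, hidx]
    have n1 := z2.1
    have n2 := z2.2
    dsimp only at b2 b3 m2 l2
    have e1 : t + 1 + 1 = t + 2 := rfl
    simp only [e1] at *
    exact ⟨by omega, by omega⟩

/-- The image of `Ext⁰(F, X^{i})` in `Ext⁰(F, Z^q)`. -/
def rng (i q : ℕ) : Submodule k (Ext F (J.cycles q) 0) := LinearMap.range (P k F (J.toCycles i q) 0)

/-- The cohomology of `Hom(F, J)`. -/
abbrev V (i q : ℕ) : Type u := Ext F (J.cycles q) 0 ⧸ rng k F J i q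

include hJ hex hfin in
theorem V_base : Nonempty (V k F J (c - 1) c ≃ₗ[k] Ext F (J.homology c) 0) := by
  obtain ⟨hB, hr⟩ := injective_Bd J hJ hex c le_rfl
  haveI := hB
  let π := P k F (J.homologyπ c) 0
  have hsurj : Function.Surjective π := fun x =>
    Ext.covariant_sequence_exact₃ F (shortExact_A J c) x rfl
      (@Subsingleton.elim _ (subsingleton_ext_injective F (Bd J c) 0) _ _)
  have hker : LinearMap.ker π = rng k F J (c - 1) c := by
    apply le_antisymm
    · intro x hx
      obtain ⟨y, rfl⟩ := Ext.covariant_sequence_exact₂ F (shortExact_A J c) x hx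
      rcases Nat.eq_zero_or_pos c with rfl | hc
      · haveI : Subsingleton (Ext F (Bd J 0) 0) := by
          refine ⟨fun a b => ?_⟩
          obtain ⟨f, rfl⟩ := (Ext.mk₀_bijective F (Bd J 0)).2 a
          obtain ⟨g, rfl⟩ := (Ext.mk₀_bijective F (Bd J 0)).2 b
          rw [(isZero_Bd_zero J).eq_of_tgt f g]
        show P k F (bz J 0) 0 y ∈ _
        rw [Subsingleton.elim y 0, map_zero]
        exact Submodule.zero_mem _
      · obtain ⟨r, hr⟩ := hr (c - 1) (by omega)
        refine ⟨P k F r 0 y, ?_⟩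
        rw [← P_comp, hr]
        rfl
    · rintro _ ⟨y, rfl⟩
      show π (P k F (J.toCycles (c - 1) c) 0 y) = 0
      rw [← P_comp, J.toCycles_comp_homologyπ, P_zero_apply]
  exact ⟨(Submodule.quotEquivOfEq _ _ hker.symm) ≪≫ₗ π.quotKerEquivOfSurjective hsurj⟩

include hJ hex hfin in
/-- The cohomology of `Hom(F, J)` in degree `c + p`. -/
theorem V_near : ∀ p, Module.Finite k (V k F J (c + p - 1) (c + p)) ∧
    Near (Module.finrank k (V k F J (c + p - 1) (c + p))) (e k F p (J.homology c))
      (match p with | 0 => 0 | p' + 1 => R k F J c p' 1 + e k F 0 (J.homology (c + p' + 1))) := by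
  intro p
  rcases p with _ | p
  · obtain ⟨E⟩ := V_base k F J hJ hex hfin
    haveI := hfin c le_rfl 0
    exact ⟨Module.Finite.equiv E.symm, Near.of_eq E.finrank_eq _⟩
  show Module.Finite k (V k F J (c + p) (c + p + 1)) ∧ Near (Module.finrank k (V k F J (c + p) (c + p + 1)))
      (e k F (p + 1) (J.homology c)) (R k F J c p 1 + e k F 0 (J.homology (c + p + 1)))
  obtain ⟨z1, z2⟩ := cycles_near k F J hJ hex hfin p 1 le_rfl
  set q := c + p with hq
  haveI : Module.Finite k (Ext F (J.cycles q) 1) := z1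
  haveI : Module.Finite k (Ext F (J.homology (q + 1)) 0) := hfin (q + 1) (by omega) 0
  haveI := hJ q
  have hA := shortExact_A J (q + 1)
  have hD := shortExact_D J q
  let δ : Ext F (Bd J (q + 1)) 0 →ₗ[k] Ext F (J.cycles q) 1 := dlt k F hD 0
  have hδs : Function.Surjective δ := fun x =>
    Ext.covariant_sequence_exact₁ F hD x (@Subsingleton.elim _ (subsingleton_ext_injective F (J.X q) 0) _ _) rfl
  have hle : rng k F J q (q + 1) ≤ LinearMap.ker (P k F (J.homologyπ (q + 1)) 0) := by
    rintro _ ⟨y, rfl⟩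
    show P k F (J.homologyπ (q + 1)) 0 (P k F (J.toCycles q (q + 1)) 0 y) = 0
    rw [← P_comp, J.toCycles_comp_homologyπ, P_zero_apply]
  let h : V k F J q (q + 1) →ₗ[k] Ext F (J.homology (q + 1)) 0 := (rng k F J q (q + 1)).liftQ _ hle
  let g₀ : Ext F (Bd J (q + 1)) 0 →ₗ[k] V k F J q (q + 1) :=
    (rng k F J q (q + 1)).mkQ.comp (P k F (bz J (q + 1)) 0)
  have hg₀ : LinearMap.ker δ = LinearMap.ker g₀ := by
    ext y
    constructor
    · intro hy
      obtain ⟨z, rfl⟩ := Ext.covariant_sequence_exact₃ F hD y rfl hy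
      refine (Submodule.Quotient.mk_eq_zero _).2 ⟨z, ?_⟩
      show P k F (J.toCycles q (q + 1)) 0 z = P k F (bz J (q + 1)) 0 (P k F (db J q) 0 z)
      rw [← P_comp, db_bz]
    · intro hy
      obtain ⟨z, hz⟩ := (Submodule.Quotient.mk_eq_zero _).1 hy
      have hz' : P k F (bz J (q + 1)) 0 (P k F (db J q) 0 z) = P k F (bz J (q + 1)) 0 y := by
        rw [← P_comp, db_bz]; exact hz
      haveI : Mono (bz J (q + 1)) := hA.mono_f
      have hyz : P k F (db J q) 0 z = y := by
        obtain ⟨f₁, hf₁⟩ := (Ext.mk₀_bijective F _).2 (P k F (db J q) 0 z)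
        obtain ⟨f₂, hf₂⟩ := (Ext.mk₀_bijective F _).2 y
        rw [← hf₁, ← hf₂, P_apply, P_apply, Ext.mk₀_comp_mk₀, Ext.mk₀_comp_mk₀] at hz'
        rw [← hf₁, ← hf₂, (cancel_mono (bz J (q + 1))).1 ((Ext.mk₀_bijective F _).1 hz')]
      subst hyz
      show δ (P k F (db J q) 0 z) = 0
      show (P k F (db J q) 0 z).comp hD.extClass (zero_add 1) = 0
      rw [P_apply, Ext.comp_assoc_of_second_deg_zero, hD.comp_extClass, Ext.comp_zero]
  let g : Ext F (J.cycles q) 1 →ₗ[k] V k F J q (q + 1) :=
    ((LinearMap.ker δ).liftQ g₀ hg₀.le).comp (δ.quotKerEquivOfSurjective hδs).symm.toLinearMap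
  have hginj : Function.Injective g := by
    show Function.Injective (((LinearMap.ker δ).liftQ g₀ hg₀.le) ∘ (δ.quotKerEquivOfSurjective hδs).symm)
    refine Function.Injective.comp ?_ (δ.quotKerEquivOfSurjective hδs).symm.injective
    rw [← LinearMap.ker_eq_bot]
    exact Submodule.ker_liftQ_eq_bot _ _ _ hg₀.ge
  obtain ⟨hVf, hVle⟩ := finite_and_le_of_exact g h fun x hx => by
    obtain ⟨w, rfl⟩ := Submodule.Quotient.mk_surjective _ x
    obtain ⟨y, hy⟩ := Ext.covariant_sequence_exact₂ F hA w hx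
    refine ⟨δ y, ?_⟩
    show (LinearMap.ker δ).liftQ g₀ hg₀.le ((δ.quotKerEquivOfSurjective hδs).symm (δ y)) = _
    rw [show (δ.quotKerEquivOfSurjective hδs).symm (δ y) = Submodule.Quotient.mk y from
      (δ.quotKerEquivOfSurjective hδs).symm_apply_eq.2 rfl]
    exact congrArg (Submodule.Quotient.mk) hy
  haveI := hVf
  refine ⟨hVf, ?_⟩
  have h1 := LinearMap.finrank_le_finrank_of_injective hginj
  have h2 := z2.1
  have h3 := z2.2
  rw [show 1 + p = p + 1 by omega] at h2 h3
  unfold e at h2 h3 ⊢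
  exact ⟨by omega, by omega⟩

end Groth.L13.AsympDual
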