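import Groth.Agent.L13.AsympDual.Shriek
import Groth.Agent.L22.PDual.LocFreeLow

/-!
Asymptotic Serre duality: `ĥ^i(X, L) = ĥ^{n-i}(X, L⁻¹)` on an integral projective scheme.
-/

set_option autoImplicit false
set_option backward.isDefEq.respectTransparency false
set_option linter.style.haveILetI false
universe u

open CategoryTheory CategoryTheory.Limits CategoryTheory.Abelian AlgebraicGeometry Filter

noncomputable section

namespace Groth.L13.AsympDual

open Groth.L16 Groth.L00.Tensor
open Groth.L11.Asymp (hd hd_def bd bd_nonneg sq_nonneg')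

attribute [local instance] Groth.L08.Cube.clMonoid

theorem bd_add (n : ℕ) (K K' : ℝ) (S : ℕ) : bd n (K + K') 0 S = bd n K 0 S + bd n K' 0 S := by
  simp only [bd, Nat.cast_zero, zero_mul, zero_div, add_zero]
  ring

variable (k : Type u) [Field k] [IsAlgClosed k] {X : Scheme.{u}} [X.Over (Spec (CommRingCat.of k))]
  [IsProper (X ↘ Spec (CommRingCat.of k))] [IsIntegral X] (hproj : ∃ A : X.Modules, CohB1.IsAmple A)
  {n : ℕ} (hn : topologicalKrullDim X = n) {L M : X.Modules} (hL : PicF.IsInvertible L)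
  (hM : ClSub.IsInverseOf L M)

omit [IsAlgClosed k] [IsProper (X ↘ Spec (CommRingCat.of k))] [IsIntegral X] in
include hL hM in
/-- `Ext^s(L^m, H) = H^s(H ⊗ M^m)`. -/
theorem e_eq [HasExt.{u} X.Modules] (m : ℕ) (H : X.Modules) (s : ℕ) :
    e k (CohB1.tensorPow L m) s H = hd k s (CohB1.tensorMod H (CohB1.tensorPow M m)) := by
  have hLm := Groth.L18.Ample.isInvertible_tensorPow hL m
  have hinv : Nonempty (CohB1.tensorMod (CohB1.tensorPow L m) (CohB1.tensorPow M m) ≅ Coh.structureModule X) := by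
    rw [← Groth.L11.Asymp.cl_iff, Groth.L11.Asymp.cl_mul, Groth.L11.Asymp.cl_pow, Groth.L11.Asymp.cl_pow,
      ← mul_pow, ← Groth.L11.Asymp.cl_mul, Groth.L11.Asymp.cl_iff.2 hM, Groth.L11.Asymp.cl_O, one_pow]
  obtain ⟨einv⟩ := hinv
  haveI := Groth.L17.Duality.hasSheafHom (CohB1.tensorPow L m)
  haveI : DCoh.HasSheafHom (CohB1.tensorPow L m) :=
    ((ModSite.sheafHomAdj (O := X.sheaf) (CohB1.tensorPow L m)).ofNatIsoLeft
      ((Groth.L17.ChangeRings.tensorRightBiIso _).symm ≪≫ Groth.L22.PDual.rightBiIso _)).isLeftAdjoint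
  obtain ⟨E⟩ := Groth.L22.PDual.nonempty_ext_linearEquiv (k := k) (CohB1.tensorPow L m)
    (Groth.L20.ResDescent.isFinLocFree_of_isInvertible hLm) s H
  obtain ⟨c⟩ := Groth.L22.PDual.nonempty_homMod_invertible einv
  rw [e, E.finrank_eq, ← hd_def]
  exact Groth.L11.Asymp.hd_iso k ((Groth.L22.PDual.homIso _).app H ≪≫ c.app H) s

include hproj hn hM hL in
/-- Duality up to lower order, with a coefficient sheaf of generic rank one. -/
theorem exists_dual {i : ℕ} (hi : i ≤ n) :
    ∃ (W : X.Modules) (K : ℝ), Coh.IsCoh W ∧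
      Module.finrank (X.presheaf.stalk (genericPoint X)) (W.presheaf.stalk (genericPoint X)) = 1 ∧
      ∀ m : ℕ, |(hd k i (CohB1.tensorPow L m) : ℝ) -
        hd k (n - i) (CohB1.tensorMod W (CohB1.tensorPow M m))| ≤ bd n K 0 m := by
  classical
  haveI := Groth.L21.RR.isNoetherian_of_proper (X := X) k
  have hMi : PicF.IsInvertible M := Groth.L11.Asymp.isInvertible_of_inverse hL hM
  obtain ⟨N, ι, hcl, hι⟩ := Groth.L11.Asymp.exists_proj k hproj
  haveI := hcl
  let Pr := CohB1.ProjSpace N k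
  haveI := Groth.L22.PDual.proper N k
  haveI := Groth.L21.RR.isNoetherian_of_proper (X := Pr) k
  haveI := Groth.L00.Tensor.grothendieckAbelian_modules Pr
  haveI := Groth.L00.Tensor.grothendieckAbelian_modules X
  haveI : HasExt.{u} Pr.Modules := inferInstance
  haveI : HasExt.{u} X.Modules := inferInstance
  haveI : HasInjectiveResolutions Pr.Modules := inferInstance
  haveI : HasInjectiveResolutions (ModSite.Mod Pr.sheaf) := ‹HasInjectiveResolutions Pr.Modules›
  haveI : Dual3.HasHomO ι := Groth.L17.ClosedPush.isLeftAdjoint_push ι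
  let A := (Scheme.Modules.pushforward ι).obj (Coh.structureModule X)
  haveI : ModSite.HasSheafHom (O := Pr.sheaf) A := Groth.L17.Duality.hasSheafHom A
  have hnN : n ≤ N := by
    have h := (ι.isClosedEmbedding.isEmbedding.isInducing.topologicalKrullDim_le).trans
        (Groth.L16.ProjSpace.topologicalKrullDim_eq_of_field N k).le
    rw [hn] at h
    exact_mod_cast h
  set c := N - n with hc
  have hnc : n + c = N := by omega
  let I := injectiveResolution (Groth.L22.PDual.ω' N k)
  let J := shriekCx ι I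
  have hA : Coh.IsCoh A := Groth.L16.CohClosedPush.isCoh_push ι Groth.L16.CohClosedPush.isCoh_structure
  have key : ∀ j, Nonempty ((Scheme.Modules.pushforward ι).obj (J.homology j) ≅
      (ModSite.extSh (O := Pr.sheaf) A j).obj (Twist.twistProjSpace N k (-((N : ℤ) + 1)))) :=
    fun j => nonempty_push_homology ι I j
  have hcoh : ∀ j, Coh.IsCoh (J.homology j) := fun j => by
    obtain ⟨e⟩ := key j
    exact Groth.L22.ExtSh.isCoh_of_push ι (Groth.L16.CohSupport.isCoh_of_iso e.symm
      (Groth.L22.ExtSh.isCoh_extSh hA (Groth.L22.PDual.isCoh_O _) j))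
  have hdim : topologicalKrullDim ↥X + (c : WithBot ℕ∞) ≤ (N : WithBot ℕ∞) := by
    rw [hn]; exact_mod_cast hnc.le
  have hex : ∀ j, j < c → IsZero (J.homology j) := fun j hj => by
    obtain ⟨e⟩ := key j
    exact isZero_of_isZero_push ι (IsZero.of_iso (Groth.L22.ExtSh.isZero_extSh_push_projSpace ι hdim
      (Groth.L20.ResDescent.isFinLocFree_of_isInvertible (Groth.L16.ProjTwist.isInvertible_twistProjSpace N k _))
      j hj) e)
  obtain ⟨e0⟩ := key c
  have hrank := Groth.L22.ExtSh.finrank_eq_one ι (n := n) hnc e0 (genericPoint X)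
    (by rw [genericPoint_closure, irreducibleComponents_eq_singleton]; rfl)
    (by rw [genericPoint_closure, IsHomeomorph.topologicalKrullDim_eq _ (Homeomorph.Set.univ _).isHomeomorph]
        exact hn)
  have hsmall : ∀ j, c < j → topologicalKrullDim (CohB1.support (J.homology j)) + 1 ≤ (n : WithBot ℕ∞) :=
    fun j hj => by
      obtain ⟨e⟩ := key j
      have hy : genericPoint X ∉ CohB1.support (J.homology j) := fun h =>
        h (subsingleton_stalk_homology ι hn hnc hj e)
      refine (Groth.L03.Euler.topologicalKrullDim_add_one_le (CohSupport.isClosed_support _ (hcoh j).2)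
        (isIrreducible_singleton (x := genericPoint X)).closure
        (by rw [genericPoint_closure]; exact Set.subset_univ _) fun e => hy ?_).trans
        (Groth.L11.Asymp.hall hn _)
      rw [e]; exact subset_closure rfl
  have hfin : ∀ m j, c ≤ j → ∀ s, Fin' k (CohB1.tensorPow L m) s (J.homology j) := fun m j _ s => by
    have hLm := Groth.L18.Ample.isInvertible_tensorPow hL m
    haveI := Groth.L17.Duality.hasSheafHom (CohB1.tensorPow L m)
    haveI : DCoh.HasSheafHom (CohB1.tensorPow L m) :=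
      ((ModSite.sheafHomAdj (O := X.sheaf) (CohB1.tensorPow L m)).ofNatIsoLeft
        ((Groth.L17.ChangeRings.tensorRightBiIso _).symm ≪≫ Groth.L22.PDual.rightBiIso _)).isLeftAdjoint
    obtain ⟨E⟩ := Groth.L22.PDual.nonempty_ext_linearEquiv (k := k) (CohB1.tensorPow L m)
      (Groth.L20.ResDescent.isFinLocFree_of_isInvertible hLm) s (J.homology j)
    obtain ⟨einv⟩ : Nonempty (CohB1.tensorMod (CohB1.tensorPow L m) (CohB1.tensorPow M m) ≅
        Coh.structureModule X) := by
      rw [← Groth.L11.Asymp.cl_iff, Groth.L11.Asymp.cl_mul, Groth.L11.Asymp.cl_pow, Groth.L11.Asymp.cl_pow,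
        ← mul_pow, ← Groth.L11.Asymp.cl_mul, Groth.L11.Asymp.cl_iff.2 hM, Groth.L11.Asymp.cl_O, one_pow]
    obtain ⟨c'⟩ := Groth.L22.PDual.nonempty_homMod_invertible einv
    haveI := ProperFinite.finite_HH (X := X) k (Groth.L16.CohSupport.isCoh_of_iso
      ((Groth.L22.PDual.homIso _).app _ ≪≫ c'.app _).symm
      (Groth.L03.Euler.isCoh_tensor (Groth.L18.Ample.isInvertible_tensorPow hMi m) (hcoh j))) s
    exact Module.Finite.equiv E.symm
  -- the error is of lower order
  have hlow : ∀ j, c < j → ∃ K : ℝ, ∀ m s, (e k (CohB1.tensorPow L m) s (J.homology j) : ℝ) ≤ bd n K 0 m :=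
    fun j hj => by
      obtain ⟨K, -, hK⟩ := Groth.L11.Asymp.exists_low k hproj hn hMi (hcoh j) (hsmall j hj)
      exact ⟨K, fun m s => hK m s _ (e_eq k hL hM m _ s)⟩
  have hR : ∀ p s, ∃ K : ℝ, ∀ m, (R k (CohB1.tensorPow L m) J c p s : ℝ) ≤ bd n K 0 m := by
    intro p
    induction p with
    | zero =>
      intro s
      exact ⟨0, fun m => by simp [R, bd]⟩
    | succ p ih =>
      intro s
      obtain ⟨K₁, h₁⟩ := ih (s + 1)
      obtain ⟨K₂, h₂⟩ := hlow (c + p + 1) (by omega)
      refine ⟨K₁ + (K₂ + K₂), fun m => ?_⟩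
      simp only [R, Nat.cast_add, bd_add]
      exact add_le_add (h₁ m) (add_le_add (h₂ m s) (h₂ m (s - 1)))
  obtain ⟨K, hK⟩ : ∃ K : ℝ, ∀ m : ℕ, ((match n - i with
      | 0 => 0 | p + 1 => R k (CohB1.tensorPow L m) J c p 1 +
        e k (CohB1.tensorPow L m) 0 (J.homology (c + p + 1)) : ℕ) : ℝ) ≤ bd n K 0 m := by
    rcases n - i with _ | p
    · exact ⟨0, fun m => by simp [bd]⟩
    · obtain ⟨K₁, h₁⟩ := hR p 1
      obtain ⟨K₂, h₂⟩ := hlow (c + p + 1) (by omega)
      refine ⟨K₁ + K₂, fun m => ?_⟩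
      simp only [Nat.cast_add, bd_add]
      exact add_le_add (h₁ m) (h₂ m 0)
  refine ⟨J.homology c, K, hcoh c, hrank, fun m => ?_⟩
  obtain ⟨hV, hnear⟩ := V_near k (CohB1.tensorPow L m) J (injective_shriekCx ι I) hex (hfin m) (n - i)
  obtain ⟨Φ⟩ := nonempty_ext_push ι hι I (CohB1.tensorPow L m) (c + (n - i))
  obtain ⟨E, hE⟩ := Groth.L16.Supp.exists_natural ι i
  have hlin : ∀ (Z : X.Modules) (a : k) (x : Coh.HH Pr ((Coh.push ι).obj Z) i),
      E Z (a • x) = a • E Z x := fun Z a x => by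
    rw [← Rees.hmap_smulMod, Groth.L16.Supp.smulMod_push ι hι, hE, Rees.hmap_smulMod]
  let EL : Coh.HH Pr ((Coh.push ι).obj (CohB1.tensorPow L m)) i ≃ₗ[k] Coh.HH X (CohB1.tensorPow L m) i :=
    { E _ with map_smul' := hlin _ }
  obtain ⟨D⟩ := Groth.L22.PDual.nonempty_ext_equiv_dual (n := N) (k := k)
    (Groth.L16.CohClosedPush.isCoh_push ι (Groth.L16.ProperFinite.isCoh_of_isInvertible
      (Groth.L18.Ample.isInvertible_tensorPow hL m))) (i := c + (n - i)) (by omega)
  have hdual : Module.finrank k (V k (CohB1.tensorPow L m) J (c + (n - i) - 1) (c + (n - i))) =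
      hd k i (CohB1.tensorPow L m) := by
    have h1 := D.finrank_eq
    rw [Subspace.dual_finrank_eq, show N - (c + (n - i)) = i by omega] at h1
    rw [hd_def, ← EL.finrank_eq]
    exact Φ.finrank_eq.trans h1
  rw [hdual, e_eq k hL hM] at hnear
  refine le_trans ?_ (hK m)
  have h1 := hnear.1
  have h2 := hnear.2
  rw [abs_le]
  constructor
  · rw [neg_le_sub_iff_le_add]; exact_mod_cast h2
  · rw [sub_le_iff_le_add, add_comm]
    exact_mod_cast h1

include hproj hn hM hL in
/-- `ĥ^i(L) = ĥ^{n-i}(L⁻¹)`. -/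
theorem hhat_symm {i : ℕ} (hi : i ≤ n) :
    W4c5asymptcohfn.hhat k X n i L = W4c5asymptcohfn.hhat k X n (n - i) M := by
  have hMi : PicF.IsInvertible M := Groth.L11.Asymp.isInvertible_of_inverse hL hM
  obtain ⟨W, K, hW, hr, hb⟩ := exists_dual k hproj hn hL hM hi
  suffices h : W4c5asymptcohfn.hhat k X n i L = W4c5asymptcohfn.hhatF k X n (n - i) W M by
    rw [h, Groth.L11.Asymp.hhatF_eq_rank k hproj hn hMi hW (n - i), hr, Nat.cast_one, one_mul]
  rw [Groth.L11.Asymp.hhat_eq, Groth.L11.Asymp.hhatF_eq, ← sub_eq_zero]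
  refine abs_eq_zero.1 (le_antisymm ?_ (abs_nonneg _))
  obtain ⟨B, hB⟩ := Groth.L11.Asymp.exists_sqF_le k hproj hn hMi hW (n - i)
  refine (Groth.L11.Asymp.abs_limsup_sub_le (sq_nonneg' k n i _) (sq_nonneg' k n (n - i) _) hB
    (Groth.L11.Asymp.tendsto_err n K 0 (s := 1) le_rfl 0 1) (Eventually.of_forall fun m => ?_)).trans
      (le_of_eq (by simp))
  rw [Groth.L11.Asymp.sq, Groth.L11.Asymp.sq, ← sub_div, ← sub_mul, abs_div, abs_mul,
    abs_of_nonneg (show (0 : ℝ) ≤ (n.factorial : ℝ) by positivity),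
    abs_of_nonneg (show (0 : ℝ) ≤ (m : ℝ) ^ n by positivity)]
  simp only [zero_mul, zero_add, one_mul]
  gcongr
  exact hb m

end Groth.L13.AsympDual
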