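import Groth.Agent.L13.AsympDual.Alg
import Groth.Agent.L22.ExtSh.ClosedDual
import Groth.Agent.L22.PDual.ExtDual
import Groth.Agent.L16.Supp.ProperSupport
import Groth.Prelude.Def_KLin

/-!
`Ext^q(ι_* F, G)` on a projective space, computed by the complex `Hom(F, ι^! I)`.
-/

set_option autoImplicit false
set_option backward.isDefEq.respectTransparency false
set_option linter.style.haveILetI false
universe u

open CategoryTheory CategoryTheory.Limits CategoryTheory.Abelian AlgebraicGeometry

noncomputable section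

namespace Groth.L13.AsympDual

variable {k : Type u} [Field k] {N : ℕ} {X : Scheme.{u}} [X.Over (Spec (CommRingCat.of k))]
  (ι : X ⟶ CohB1.ProjSpace N k) [IsClosedImmersion ι] [Dual3.HasHomO ι]
  (hι : ι ≫ CohB1.ProjSpace.toSpec N k = X ↘ Spec (CommRingCat.of k))

include hι in
theorem push_smul_id (M : X.Modules) (a : k) :
    (Scheme.Modules.pushforward ι).map (a • 𝟙 M) = a • 𝟙 ((Scheme.Modules.pushforward ι).obj M) := by
  rw [KLin.smul_def, KLin.smul_def, Category.comp_id, Category.comp_id]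
  exact (Groth.L16.Supp.smulMod_push ι hι M a).symm

variable {G : (CohB1.ProjSpace N k).Modules} (I : InjectiveResolution G)

/-- `ι^!` of the resolution. -/
def shriekCx : CochainComplex X.Modules ℕ :=
  haveI : (Dual3.homO ι).Additive := (Dual3.homOAdj ι).right_adjoint_additive
  ((Dual3.homO ι).mapHomologicalComplex _).obj I.cocomplex

theorem injective_shriekCx (q : ℕ) : Injective ((shriekCx ι I).X q) := by
  haveI := (Scheme.Modules.pullbackPushforwardAdjunction ι).isRightAdjoint
  haveI : PreservesFiniteLimits (Scheme.Modules.pushforward ι) := inferInstance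
  haveI := I.injective q
  exact Injective.injective_of_adjoint (Dual3.homOAdj ι) (I.cocomplex.X q)

/-- Transposition. -/
def tp {F : X.Modules} {q : ℕ} (g : F ⟶ (shriekCx ι I).X q) :
    (Scheme.Modules.pushforward ι).obj F ⟶ I.cocomplex.X q :=
  ((Dual3.homOAdj ι).homEquiv _ _).symm g

theorem tp_d {F : X.Modules} {q q' : ℕ} (g : F ⟶ (shriekCx ι I).X q) :
    tp ι I g ≫ I.cocomplex.d q q' = tp ι I (g ≫ (shriekCx ι I).d q q') :=
  ((Dual3.homOAdj ι).homEquiv_naturality_right_symm g _).symm

theorem tp_zero {F : X.Modules} {q : ℕ} : tp ι I (0 : F ⟶ (shriekCx ι I).X q) = 0 := by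
  haveI := (Dual3.homOAdj ι).left_adjoint_additive
  show ((Dual3.homOAdj ι).homEquiv _ _).symm 0 = 0
  rw [Adjunction.homEquiv_counit, Functor.map_zero, zero_comp]

theorem tp_add {F : X.Modules} {q : ℕ} (g g' : F ⟶ (shriekCx ι I).X q) :
    tp ι I (g + g') = tp ι I g + tp ι I g' := by
  haveI := (Dual3.homOAdj ι).left_adjoint_additive
  simp only [tp, Adjunction.homEquiv_counit, Functor.map_add, Preadditive.add_comp]

include hι in
theorem tp_smul {F : X.Modules} {q : ℕ} (a : k) (g : F ⟶ (shriekCx ι I).X q) :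
    tp ι I (a • g) = a • tp ι I g := by
  have h1 : a • g = (a • 𝟙 F) ≫ g := by rw [Linear.smul_comp, Category.id_comp]
  rw [h1, tp, Adjunction.homEquiv_naturality_left_symm, push_smul_id ι hι, Linear.smul_comp,
    Category.id_comp]
  rfl

variable [HasExt.{u} X.Modules] [HasExt.{u} (CohB1.ProjSpace N k).Modules] (F : X.Modules)

include hι in
/-- `Ext^q(ι_* F, G)` is the cohomology of `Hom(F, ι^! I)`. -/
theorem nonempty_ext_push (q : ℕ) :
    Nonempty (V k F (shriekCx ι I) (q - 1) q ≃ₗ[k] Ext ((Scheme.Modules.pushforward ι).obj F) G q) := by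
  let J := shriekCx ι I
  let E : Ext F (J.cycles q) 0 ≃ₗ[k] (F ⟶ J.cycles q) := Ext.linearEquiv₀
  have hc : ∀ f : F ⟶ J.cycles q, tp ι I (f ≫ J.iCycles q) ≫ I.cocomplex.d q (q + 1) = 0 := fun f => by
    rw [tp_d, Category.assoc, J.iCycles_d, comp_zero, tp_zero]
  let Φ₀ : (F ⟶ J.cycles q) →ₗ[k] Ext ((Scheme.Modules.pushforward ι).obj F) G q :=
    { toFun := fun f => I.extMk (tp ι I (f ≫ J.iCycles q)) (q + 1) rfl (hc f)
      map_add' := fun f g => by
        rw [I.add_extMk]
        congr 1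
        rw [Preadditive.add_comp, tp_add]
      map_smul' := fun a f => by
        rw [RingHom.id_apply, ← Groth.L22.ExtSh.smul_extMk k I a _ (q + 1) rfl (hc f)]
        congr 1
        rw [Linear.smul_comp, tp_smul ι hι] }
  let Φ := Φ₀.comp E.toLinearMap
  have hsurj : Function.Surjective Φ := fun a => by
    obtain ⟨f, hf, rfl⟩ := I.extMk_surjective a (q + 1) rfl
    obtain ⟨g, rfl⟩ := ((Dual3.homOAdj ι).homEquiv _ _).symm.surjective f
    have hg : g ≫ J.d q (q + 1) = 0 := by
      refine ((Dual3.homOAdj ι).homEquiv _ _).symm.injective ?_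
      exact (tp_d ι I g).symm.trans (hf.trans (tp_zero ι I).symm)
    refine ⟨E.symm (J.liftCycles g (q + 1) (by simp) hg), ?_⟩
    show Φ₀ (E (E.symm _)) = _
    rw [E.apply_symm_apply]
    show I.extMk (tp ι I (J.liftCycles g (q + 1) (by simp) hg ≫ J.iCycles q)) (q + 1) rfl
      (hc (J.liftCycles g (q + 1) (by simp) hg)) = _
    simp only [J.liftCycles_i]
    rfl
  have hE : ∀ {Y : X.Modules} (φ : F ⟶ Y), (Ext.linearEquiv₀ (R := k)).symm φ = Ext.mk₀ φ :=
    fun φ => Ext.linearEquiv₀_symm_apply φ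
  have hker : LinearMap.ker Φ = rng k F J (q - 1) q := by
    apply le_antisymm
    · intro x hx
      obtain ⟨f, rfl⟩ := E.symm.surjective x
      have hx' : Φ₀ (E (E.symm f)) = 0 := hx
      rw [E.apply_symm_apply] at hx'
      obtain ⟨i, g, hg⟩ := (Groth.L22.DualSheaf.extMk_eq_zero_iff' I _ (hc f)).1 hx'
      obtain ⟨g', rfl⟩ := ((Dual3.homOAdj ι).homEquiv _ _).symm.surjective g
      have h1 : g' ≫ J.toCycles i q = f := by
        rw [← cancel_mono (J.iCycles q), Category.assoc, J.toCycles_i]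
        refine ((Dual3.homOAdj ι).homEquiv _ _).symm.injective ?_
        exact (tp_d ι I g').symm.trans hg
      by_cases hi : i = q - 1
      · subst hi
        refine ⟨Ext.mk₀ g', ?_⟩
        rw [P_apply, Ext.mk₀_comp_mk₀, h1]
        exact (hE f).symm
      · have h0 : J.toCycles i q = 0 := by
          rw [← cancel_mono (J.iCycles q), J.toCycles_i, zero_comp]
          exact J.shape _ _ (by simp; omega)
        rw [h0, comp_zero] at h1
        rw [← h1, map_zero]
        exact Submodule.zero_mem _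
    · rintro _ ⟨y, rfl⟩
      obtain ⟨g, rfl⟩ := (Ext.mk₀_bijective F _).2 y
      show Φ₀ (E (P k F (J.toCycles (q - 1) q) 0 (Ext.mk₀ g))) = 0
      rw [P_apply, Ext.mk₀_comp_mk₀, ← hE, show E = Ext.linearEquiv₀ from rfl, LinearEquiv.apply_symm_apply]
      show I.extMk (tp ι I ((g ≫ J.toCycles (q - 1) q) ≫ J.iCycles q)) (q + 1) rfl
        (hc (g ≫ J.toCycles (q - 1) q)) = 0
      rw [Groth.L22.DualSheaf.extMk_eq_zero_iff']
      refine ⟨q - 1, tp ι I g, ?_⟩
      rw [tp_d, Category.assoc, J.toCycles_i]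
  exact ⟨Submodule.quotEquivOfEq _ _ hker.symm ≪≫ₗ Φ.quotKerEquivOfSurjective hsurj⟩

end Groth.L13.AsympDual
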