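import Groth.Agent.L13.AsympDual.Push
import Groth.Agent.L22.ExtSh.TorsionFree
import Groth.Agent.L22.ExtSh.Coherence
import Groth.Agent.L22.ExtSh.ExtPush
import Groth.Agent.L11.Asymp.Sheaf

/-!
The homology sheaves of `ι^! ω` for an integral closed subscheme of projective space.
-/

set_option autoImplicit false
set_option backward.isDefEq.respectTransparency false
set_option linter.style.haveILetI false
universe u

open CategoryTheory CategoryTheory.Limits CategoryTheory.Abelian AlgebraicGeometry

noncomputable section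

namespace Groth.L13.AsympDual

open IsLocalRing RingTheory.Sequence Groth.L16
open Groth.L16.HomSh (homModF)

/-- Modulo a regular sequence the vanishing range of `Ext` moves by its length. -/
theorem subsingleton_ext_quot {R : Type u} [CommRing R] {M : ModuleCat.{u} R} :
    ∀ (rs : List R) (N : ModuleCat.{u} R) (b : ℕ), IsWeaklyRegular N rs →
      (∀ j, b < j → Subsingleton (Ext N M j)) → ∀ j, b + rs.length < j →
      Subsingleton (Ext (ModuleCat.of R (N ⧸ (Ideal.ofList rs • ⊤ : Submodule R N))) M j)
  | [], N, b, _, h, j, hj => by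
    obtain ⟨e⟩ := Groth.L22.ExtSh.nonempty_ext_congr_left (M := M)
      (Submodule.quotEquivOfEqBot (Ideal.ofList ([] : List R) • ⊤ : Submodule R N)
        (by rw [Ideal.ofList_nil, Submodule.bot_smul])).toModuleIso j
    haveI := h j (by simpa using hj)
    first
    | exact e.toEquiv.subsingleton
    | exact e.symm.toEquiv.subsingleton
  | a :: rs, N, b, hreg, h, j, hj => by
    obtain ⟨ha, hreg'⟩ := (isWeaklyRegular_cons_iff N a rs).1 hreg
    rw [List.length_cons] at hj
    have hS := ha.smulShortComplex_shortExact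
    haveI := subsingleton_ext_quot rs (ModuleCat.of R (QuotSMulTop a N)) (b + 1) hreg' (fun i hi => by
      obtain ⟨i, rfl⟩ : ∃ i', i = 1 + i' := ⟨i - 1, by omega⟩
      refine subsingleton_of_forall_eq 0 fun x => ?_
      obtain ⟨y, hy⟩ := Ext.contravariant_sequence_exact₃ hS M x
        (@Subsingleton.elim _ (h (1 + i) (by omega)) _ _) rfl
      rw [← hy, @Subsingleton.elim _ (h i (by omega)) y 0]
      simp) j (by omega)
    obtain ⟨e⟩ := Groth.L22.ExtSh.nonempty_ext_congr_left (M := M)
      (Submodule.quotOfListConsSMulTopEquivQuotSMulTopInner N a rs).toModuleIso j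
    first
    | exact e.toEquiv.subsingleton
    | exact e.symm.toEquiv.subsingleton

/-- A regular local ring of dimension `b` has `Ext^j(k, R) = 0` for `j > b`. -/
theorem subsingleton_ext_residueField {R : Type u} [CommRing R] [IsRegularLocalRing R] {b j : ℕ}
    (hb : ringKrullDim R = b) (hj : b < j) :
    Subsingleton (Ext (ModuleCat.of R (ResidueField R)) (ModuleCat.of R R) j) := by
  obtain ⟨rs, rfl, hreg, hgen⟩ := Groth.L04.exists_regular_generators hb
  have h0 : ∀ i, 0 < i → Subsingleton (Ext (ModuleCat.of R R) (ModuleCat.of R R) i) := fun i hi => by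
    obtain ⟨i, rfl⟩ : ∃ i', i = i' + 1 := ⟨i - 1, by omega⟩
    exact subsingleton_of_forall_eq 0 Ext.eq_zero_of_projective
  haveI := subsingleton_ext_quot rs (ModuleCat.of R R) 0 hreg.toIsWeaklyRegular h0 j (by omega)
  let q : (R ⧸ (Ideal.ofList rs • ⊤ : Submodule R R)) ≃ₗ[R] ResidueField R :=
    Submodule.quotEquivOfEq _ _ (by rw [hgen, Ideal.smul_top_eq_map]; simp)
  obtain ⟨e⟩ := Groth.L22.ExtSh.nonempty_ext_congr_left (M := ModuleCat.of R R) q.toModuleIso j
  first
  | exact e.toEquiv.subsingleton
  | exact e.symm.toEquiv.subsingleton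

variable {k : Type u} [Field k] {N : ℕ} {X : Scheme.{u}}
  (ι : X ⟶ CohB1.ProjSpace N k) [IsClosedImmersion ι] [Dual3.HasHomO ι]
  [ModSite.HasSheafHom (O := (CohB1.ProjSpace N k).sheaf) ((Scheme.Modules.pushforward ι).obj (Coh.structureModule X))]
  [HasInjectiveResolutions (ModSite.Mod (CohB1.ProjSpace N k).sheaf)]

/-- The homology of `ι^! I` is the Ext sheaf. -/
theorem nonempty_push_homology {G : (CohB1.ProjSpace N k).Modules} (I : InjectiveResolution G) (q : ℕ) :
    Nonempty ((Scheme.Modules.pushforward ι).obj ((shriekCx ι I).homology q) ≅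
      (ModSite.extSh (O := (CohB1.ProjSpace N k).sheaf)
        ((Scheme.Modules.pushforward ι).obj (Coh.structureModule X)) q).obj G) := by
  haveI : HasInjectiveResolutions (CohB1.ProjSpace N k).Modules :=
    ‹HasInjectiveResolutions (ModSite.Mod (CohB1.ProjSpace N k).sheaf)›
  let push := Scheme.Modules.pushforward ι
  let adj := Dual3.homOAdj ι
  let A := push.obj (Coh.structureModule X)
  haveI := (Scheme.Modules.pullbackPushforwardAdjunction ι).isRightAdjoint
  haveI : PreservesFiniteLimits push := inferInstance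
  haveI : PreservesFiniteColimits push := inferInstance
  haveI : push.Additive := adj.left_adjoint_additive
  haveI : (Dual3.homO ι).Additive := adj.right_adjoint_additive
  haveI := Groth.L22.ExtSh.additive_homModF A
  obtain ⟨κ⟩ := Groth.L22.DualSheaf.nonempty_homO_push ι
  obtain ⟨e⟩ := Groth.L22.ExtSh.nonempty_extSh_iso A G q
  exact ⟨(e ≪≫ I.isoRightDerivedObj (homModF A) q ≪≫
      (HomologicalComplex.homologyFunctor _ (ComplexShape.up ℕ) q).mapIso
        ((NatIso.mapHomologicalComplex κ.symm (ComplexShape.up ℕ)).app I.cocomplex) ≪≫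
      ((shriekCx ι I).sc q).mapHomologyIso push).symm⟩

/-- A module of the subscheme with zero direct image is zero. -/
theorem isZero_of_isZero_push {M : X.Modules} (h : IsZero ((Scheme.Modules.pushforward ι).obj M)) : IsZero M := by
  haveI := Groth.L17.ClosedPush.isIso_counit ι
  haveI : (Scheme.Modules.pullback ι).Additive :=
    (Scheme.Modules.pullbackPushforwardAdjunction ι).left_adjoint_additive
  exact ((Scheme.Modules.pullback ι).map_isZero h).of_iso
    ((asIso (Scheme.Modules.pullbackPushforwardAdjunction ι).counit).app M).symm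

open Groth.L22.ExtSh in
/-- Above the codimension the homology is not supported at the generic point. -/
theorem subsingleton_stalk_homology [X.Over (Spec (CommRingCat.of k))] [IsIntegral X] {n c : ℕ}
    (hd : topologicalKrullDim X = n) (hnc : n + c = N) {j : ℕ} (hj : c < j) {W : X.Modules}
    (eW : (Scheme.Modules.pushforward ι).obj W ≅ (ModSite.extSh (O := (CohB1.ProjSpace N k).sheaf)
      ((Scheme.Modules.pushforward ι).obj (Coh.structureModule X)) j).obj
        (Twist.twistProjSpace N k (-((N : ℤ) + 1)))) :
    Subsingleton (W.presheaf.stalk (genericPoint X)) := by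
  haveI := Groth.L22.PDual.proper N k
  haveI := Groth.L21.RR.isNoetherian_of_proper (X := CohB1.ProjSpace N k) k
  letI : (CohB1.ProjSpace N k).Over (Spec (CommRingCat.of k)) := ⟨CohB1.ProjSpace.toSpec N k⟩
  haveI : LocallyOfFiniteType (CohB1.ProjSpace N k ↘ Spec (CommRingCat.of k)) :=
    inferInstanceAs (LocallyOfFiniteType (CohB1.ProjSpace.toSpec N k))
  set x := genericPoint X
  let Pr := CohB1.ProjSpace N k
  let R := Pr.presheaf.stalk (ι x)
  haveI : IsRegularLocalRing R := Groth.L22.PDual.regular_stalk (ι x)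
  obtain ⟨a, b, ha, hb, hloc⟩ := Groth.L22.SchemeDim.exists_localDim k Pr (ι x)
  obtain ⟨m, hm, htr⟩ := Groth.L22.SchemeDim.exists_dim_closure_eq_trdeg k Pr (ι x)
  obtain rfl : a = m := by exact_mod_cast ha.symm.trans htr
  have hcl : closure ({x} : Set ↥X) = Set.univ := genericPoint_closure _
  have han : a = n := by
    have him : ι '' closure ({x} : Set ↥X) = closure {ι x} := by
      rw [← ι.isClosedEmbedding.closure_image_eq, Set.image_singleton]
    have e := IsHomeomorph.topologicalKrullDim_eq _
      (ι.isClosedEmbedding.isEmbedding.homeomorphImage (closure ({x} : Set ↥X))).isHomeomorph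
    rw [him, hm, hcl, IsHomeomorph.topologicalKrullDim_eq _ (Homeomorph.Set.univ _).isHomeomorph, hd] at e
    exact_mod_cast e.symm
  have h1 : (N : WithBot ℕ∞) ≤ FlatMor.localDim Pr (ι x) := le_localDim_of_equidim k (fun Z hZ => by
    rw [irreducibleComponents_eq_singleton, Set.mem_singleton_iff] at hZ
    subst hZ
    rw [IsHomeomorph.topologicalKrullDim_eq _ (Homeomorph.Set.univ _).isHomeomorph]
    exact Groth.L16.ProjSpace.topologicalKrullDim_eq_of_field N k) (ι x)
  have h2 : FlatMor.localDim Pr (ι x) ≤ (N : WithBot ℕ∞) :=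
    (iInf_le_of_le ⟨⊤, trivial⟩ (topologicalKrullDim_subspace_le _ _)).trans
      (Groth.L16.ProjSpace.topologicalKrullDim_eq_of_field N k).le
  rw [hloc] at h1 h2
  have hbc : b = c := by
    have h1' : N ≤ a + b := by exact_mod_cast h1
    have h2' : a + b ≤ N := by exact_mod_cast h2
    omega
  have hA : IsField (X.presheaf.stalk x) := by
    letI : Field (X.presheaf.stalk x) := inferInstanceAs (Field X.functionField)
    exact Field.toIsField _
  obtain ⟨L, -⟩ := nonempty_stalk_equiv ι eW x
  obtain ⟨cc, hcc, hcs⟩ := exists_c₀_structure ι x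
  let φ : R →+* X.presheaf.stalk x := (ι.stalkMap x).hom
  have hker : RingHom.ker φ = maximalIdeal R := by
    refine IsLocalRing.eq_maximalIdeal ?_
    letI := hA.toField
    exact RingHom.ker_isMaximal_of_surjective φ (ι.stalkMap_surjective x)
  obtain ⟨m₀, hm₀⟩ := hcc.2 1
  let T : R →ₗ[R] ((Coh.push ι).obj (Coh.structureModule X)).presheaf.stalk (ι x) := LinearMap.toSpanSingleton R _ m₀
  have hTs : Function.Surjective T := fun m => by
    obtain ⟨r, hr⟩ := ι.stalkMap_surjective x (cc m)
    exact ⟨r, hcc.1 (by rw [LinearMap.toSpanSingleton_apply, hcs, hm₀, mul_one]; exact hr)⟩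
  have hTk : LinearMap.ker T = maximalIdeal R := by
    rw [← hker]
    ext r
    rw [LinearMap.mem_ker, RingHom.mem_ker, LinearMap.toSpanSingleton_apply, ← (hcc.1).eq_iff, map_zero, hcs, hm₀,
      mul_one]
  let eM : ResidueField R ≃ₗ[R] ((Coh.push ι).obj (Coh.structureModule X)).presheaf.stalk (ι x) :=
    (Submodule.quotEquivOfEq _ _ hTk.symm) ≪≫ₗ T.quotKerEquivOfSurjective hTs
  haveI := subsingleton_ext_residueField (R := R) (j := j) hb (hbc.trans_lt hj)
  obtain ⟨eE⟩ := nonempty_ext_congr_left (M := ModuleCat.of R R) eM.toModuleIso j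
  haveI : Subsingleton (Ext (ModuleCat.of R (((Coh.push ι).obj (Coh.structureModule X)).presheaf.stalk (ι x)))
      (ModuleCat.of R R) j) := by
    first
    | exact eE.toEquiv.subsingleton
    | exact eE.symm.toEquiv.subsingleton
  exact L.symm.toEquiv.subsingleton

end Groth.L13.AsympDual
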